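import Groth.Agent.LoccohB.LBC
import Groth.Agent.Flat2H.TorDim
import Mathlib.CategoryTheory.Abelian.Projective.Extend

/-!
# `N ⊗^L_A B` is in `D^{≥ -n}` if `B` has tor dimension `≤ n` over `A`
-/

set_option autoImplicit false

universe u

open CategoryTheory CategoryTheory.Limits MonoidalCategory

attribute [local instance] HasDerivedCategory.standard

namespace Groth.Agent.Dual.H379.TorBC

variable {A B : Type u} [CommRing A] [CommRing B] (φ : A →+* B)

/-- The shape of the resolution in degrees `-(p+2), -(p+1), -p`. -/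
noncomputable def scIso (N : ModuleCat.{u} A) (P : ProjectiveResolution N) (p : ℕ) :
    P.cochainComplex.sc' (-((p + 2 : ℕ) : ℤ)) (-((p + 1 : ℕ) : ℤ)) (-(p : ℤ)) ≅
      P.complex.sc' (p + 2) (p + 1) p :=
  ShortComplex.isoMk (P.cochainComplexXIso _ _ rfl) (P.cochainComplexXIso _ _ rfl)
    (P.cochainComplexXIso _ _ rfl)
    (by
      change _ ≫ P.complex.d (p + 2) (p + 1) = P.cochainComplex.d _ _ ≫ _
      rw [P.cochainComplex_d _ _ (p + 2) (p + 1) rfl rfl]
      simp)
    (by
      change _ ≫ P.complex.d (p + 1) p = P.cochainComplex.d _ _ ≫ _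
      rw [P.cochainComplex_d _ _ (p + 1) p rfl rfl]
      simp)

/-- Vanishing of `Tor_{p+1}(B, N)` is exactness of `B ⊗ P` in degree `-(p+1)`. -/
theorem exactAt (N : ModuleCat.{u} A) (P : ProjectiveResolution N) (p : ℕ)
    (h : letI := φ.toAlgebra; Subsingleton (DRing.Tor A (p + 1) B N)) :
    (((ModuleCat.extendScalars.{u, u, u} φ).mapHomologicalComplex (ComplexShape.up ℤ)).obj
      P.cochainComplex).ExactAt (-((p + 1 : ℕ) : ℤ)) := by
  let := φ.toAlgebra
  rw [HomologicalComplex.exactAt_iff' _ (-((p + 2 : ℕ) : ℤ)) (-((p + 1 : ℕ) : ℤ)) (-(p : ℤ))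
    (by simp; omega) (by simp)]
  have h1 : ((P.complex.sc' (p + 2) (p + 1) p).map (ModuleCat.extendScalars.{u, u, u} φ)).Exact := by
    rw [ShortComplex.ShortExact.moduleCat_exact_iff_function_exact]
    exact (Flat2H.TorDim.subsingleton_tor_succ_iff (M := B) P p).1 h
  exact (ShortComplex.exact_iff_of_iso ((ModuleCat.extendScalars.{u, u, u} φ).mapShortComplex.mapIso
    (scIso N P p))).2 h1

instance isKProjective (N : ModuleCat.{u} A) (P : ProjectiveResolution N) :
    P.cochainComplex.IsKProjective := by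
  exact CochainComplex.isKProjective_of_projective _ 0

/-- `N ⊗^L_A B` is computed by a projective resolution of `N`. -/
noncomputable def lbcIso [DRing.HasLBaseChange φ] (N : ModuleCat.{u} A) (P : ProjectiveResolution N) :
    (DRing.LBaseChange φ).obj ((DerivedCategory.singleFunctor _ 0).obj N) ≅
      DerivedCategory.Q.obj (((ModuleCat.extendScalars.{u, u, u} φ).mapHomologicalComplex
        (ComplexShape.up ℤ)).obj P.cochainComplex) :=
  (DRing.LBaseChange φ).mapIso ((DerivedCategory.singleFunctorIsoCompQ _ 0).app N ≪≫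
    (asIso (DerivedCategory.Q.map P.π')).symm) ≪≫
    @asIso _ _ _ _ ((LoccohB.LBC.lbcCounit φ).app ((HomotopyCategory.quotient _ _).obj P.cochainComplex))
      (LoccohB.LBC.isIso_lbcCounit_app φ P.cochainComplex)

/-- If `B` has tor dimension `≤ n` over `A` then `N ⊗^L_A B ∈ D^{≥ -n}`. -/
theorem isGE_LBaseChange (n : ℕ) (h : letI := φ.toAlgebra; DRing.HasTorDimLE A n B)
    [DRing.HasLBaseChange φ] (N : ModuleCat.{u} A) :
    ((DRing.LBaseChange φ).obj ((DerivedCategory.singleFunctor _ 0).obj N)).IsGE (-(n : ℤ)) := by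
  let P := projectiveResolution N
  have h1 : CochainComplex.IsGE (((ModuleCat.extendScalars.{u, u, u} φ).mapHomologicalComplex
        (ComplexShape.up ℤ)).obj P.cochainComplex) (-(n : ℤ)) := by
    rw [CochainComplex.isGE_iff]
    intro i hi
    obtain ⟨p, rfl⟩ : ∃ p : ℕ, i = -((p + 1 : ℕ) : ℤ) := ⟨(-i - 1).toNat, by omega⟩
    exact exactAt φ N P p (h N (p + 1) (by omega))
  have h2 : (DerivedCategory.Q.obj (((ModuleCat.extendScalars.{u, u, u} φ).mapHomologicalComplex
        (ComplexShape.up ℤ)).obj P.cochainComplex)).IsGE (-(n : ℤ)) :=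
    (DerivedCategory.isGE_Q_obj_iff _ _).2 h1
  exact DerivedCategory.TStructure.t.isGE_of_iso (lbcIso φ N P).symm _

end Groth.Agent.Dual.H379.TorBC
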