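import Groth.Prelude.Def_MoreMor
import Groth.Agent.Dual.H379.TorBC
import Groth.Agent.PerfB.LpullOpens
import Groth.Agent.PerfB.TildeExact
import Groth.Agent.PerfA.PerfLocal
import Groth.Agent.PerfA.QCohD
import Groth.Agent.Dcoh.MapDer
import Groth.Agent.S1055
import Groth.Agent.LoccohB.LBC

/-!
# Tor-boundedness of `Lf^*` for `f` of finite tor dimension

If `f : X ⟶ Y` is perfect (or only: locally of finite tor dimension), `X` quasi-compact, there is `n` with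
`Lf^* (F[0]) ∈ D^{≥ -n}` for all quasi-coherent `F`.
-/

set_option autoImplicit false

universe u

open CategoryTheory CategoryTheory.Limits AlgebraicGeometry

attribute [local instance] HasDerivedCategory.standard

namespace Groth.Agent.Dual.H379.LpullBound

open Groth.Agent.PerfA.Restrict Groth.Agent.PerfB.LpullOpens

variable {X Y : Scheme.{u}}

/-- The affine case. -/
theorem affine {A B : CommRingCat.{u}} (φ : A ⟶ B) (n : ℕ)
    (h : letI := φ.hom.toAlgebra; DRing.HasTorDimLE A n B) [DCoh.HasLpull (Spec.map φ)]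
    (F : (Spec A).Modules) (hF : Coh.IsQCoh F) :
    ((DCoh.Lpull (Spec.map φ)).obj (DCoh.inD (Spec A) F)).IsGE (-(n : ℤ)) := by
  have hq : F.IsQuasicoherent := hF
  have h1 : DRing.HasLBaseChange φ.hom := LoccohB.LBC.hasLBaseChange _
  obtain ⟨e'⟩ : Nonempty (DRing.LBaseChange φ.hom ⋙ DCoh.tildeD B ≅
    DCoh.tildeD A ⋙ DCoh.Lpull (Spec.map φ)) := S1055.result φ.hom
  obtain ⟨N, ⟨eN⟩⟩ : ∃ N : ModuleCat.{u} A, Nonempty (F ≅ tilde N) := ⟨_, ⟨(asIso F.fromTildeΓ).symm⟩⟩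
  let e1 : DCoh.inD (Spec A) F ≅
      (DCoh.tildeD A).obj ((DerivedCategory.singleFunctor (ModuleCat.{u} A) 0).obj N) :=
    (DerivedCategory.singleFunctor (Spec A).Modules 0).mapIso eN ≪≫
      (((tilde.functor A).mapDerivedCategorySingleFunctor 0).app N).symm
  have h2 := TorBC.isGE_LBaseChange φ.hom n h N
  have h3 : DerivedCategory.TStructure.t.IsGE ((DRing.LBaseChange φ.hom ⋙ DCoh.tildeD B).obj
      ((DerivedCategory.singleFunctor (ModuleCat.{u} A) 0).obj N)) (-(n : ℤ)) :=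
    Dcoh.MapDer.isGE_map (tilde.functor B) (-(n : ℤ)) ((DRing.LBaseChange φ.hom).obj
      ((DerivedCategory.singleFunctor (ModuleCat.{u} A) 0).obj N))
  exact DerivedCategory.TStructure.t.isGE_of_iso
    (e'.app _ ≪≫ (DCoh.Lpull (Spec.map φ)).mapIso e1.symm) _

/-- `f` has finite tor dimension, locally on source and target. -/
def LocTorDim (f : X ⟶ Y) : Prop :=
  ∀ x : X, ∃ (A B : CommRingCat.{u}) (φ : A ⟶ B) (v : Spec B ⟶ X) (j : Spec A ⟶ Y)
      (_ : IsOpenImmersion v) (_ : IsOpenImmersion j) (y : Spec B) (n : ℕ), v y = x ∧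
      v ≫ f = Spec.map φ ≫ j ∧ (letI := φ.hom.toAlgebra; DRing.HasTorDimLE A n B)

theorem locTorDim_of_isPerfectMor (f : X ⟶ Y) (hf : MoreMor.IsPerfectMor f) : LocTorDim f := by
  intro x
  obtain ⟨V, hV, hfV, -⟩ := exists_isAffineOpen_mem_and_subset (U := (⊤ : Y.Opens)) (x := f x)
    (TopologicalSpace.Opens.mem_top _)
  obtain ⟨U, hU, hxU, hUV⟩ := exists_isAffineOpen_mem_and_subset (U := f ⁻¹ᵁ V) (x := x) hfV
  obtain ⟨n, hn⟩ := (hf U V hU hV hUV).2
  exact ⟨Γ(Y, V), Γ(X, U), f.appLE V U hUV, hU.fromSpec, hV.fromSpec, inferInstance, inferInstance,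
    hU.primeIdealOf ⟨x, hxU⟩, n, hU.fromSpec_primeIdealOf ⟨x, hxU⟩,
    (hV.SpecMap_appLE_fromSpec f hU hUV).symm, hn⟩

/-- A chart. -/
theorem exists_chart (f : X ⟶ Y) (hf : LocTorDim f) [DCoh.HasLpull f] (x : X) :
    ∃ (W : Scheme.{u}) (v : W ⟶ X) (_ : IsOpenImmersion v) (w : W) (n : ℕ), v w = x ∧
      ∀ F : Y.Modules, Coh.IsQCoh F →
        ((restrictD v).obj ((DCoh.Lpull f).obj (DCoh.inD Y F))).IsGE (-(n : ℤ)) := by
  obtain ⟨A, B, φ, v, j, hv, hj, w, n, hw, h, hn⟩ := hf x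
  refine ⟨_, v, hv, w, n, hw, fun F hF => ?_⟩
  have h0 : DCoh.HasLpull (Spec.map φ) := S0959.result _
  obtain ⟨e⟩ := nonempty_lpullRestrict v f (Spec.map φ) j h
  have hF' : Coh.IsQCoh (F.restrict j) := PerfA.QCohSerre.isQCoh_restrict j hF
  have h1 := affine φ n hn (F.restrict j) hF'
  exact DerivedCategory.TStructure.t.isGE_of_iso
    ((DCoh.Lpull (Spec.map φ)).mapIso (PerfA.PerfLocal.restrictInD j F).symm ≪≫ (e.app _).symm) _

/-- `Lf^* (F[0]) ∈ D^{≥ -n}` for `F` quasi-coherent, uniformly. -/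
theorem exists_bound [CompactSpace X] (f : X ⟶ Y) (hf : LocTorDim f) [DCoh.HasLpull f] :
    ∃ n : ℕ, ∀ F : Y.Modules, Coh.IsQCoh F →
      ((DCoh.Lpull f).obj (DCoh.inD Y F)).IsGE (-(n : ℤ)) := by
  choose W v hv w n hw h using exists_chart f hf
  obtain ⟨t, ht⟩ := CompactSpace.elim_nhds_subcover (fun x => ((v x).opensRange : Set X))
    (fun x => (v x).opensRange.isOpen.mem_nhds ⟨w x, hw x⟩)
  obtain ⟨m, hm⟩ : ∃ m : ℕ, ∀ x ∈ t, n x ≤ m := ⟨t.sup n, fun x hx => Finset.le_sup hx⟩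
  refine ⟨m, fun F hF => ?_⟩
  rw [DerivedCategory.isGE_iff]
  intro i hi
  refine isZero_of_restrict _ fun y => ?_
  have : y ∈ (⊤ : Set X) := trivial
  rw [← ht] at this
  obtain ⟨x, hx, hy⟩ : ∃ x ∈ t, y ∈ (v x).opensRange := by simpa using this
  obtain ⟨z, hz⟩ := hy
  have h1 := h x F hF
  exact ⟨W x, v x, hv x, z, hz, (((restrictD (v x)).obj _).isZero_of_isGE (-(n x : ℤ)) i
    (by have := hm x hx; omega)).of_iso (HDrestrict (v x) _ i).symm⟩

end Groth.Agent.Dual.H379.LpullBound
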