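import Groth.Agent.Dcoh.PerfDual
import Groth.Agent.Dcoh.ModTens
import Groth.Agent.Dcoh.MonAdj
import Groth.Agent.PerfC.LTBound
import Groth.Agent.PerfC.DTens
import Groth.Agent.PerfA.Restrict

/-!
# `E ⊗ -` preserves lower bounds up to a constant for `E` perfect
-/

set_option autoImplicit false

universe u

open CategoryTheory CategoryTheory.Limits AlgebraicGeometry MonoidalCategory

attribute [local instance] HasDerivedCategory.standard

open scoped Groth.Agent.Dcoh.MonCat Groth.Agent.Dcoh.ModD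

namespace Groth.Agent.Dual.H379.TensBound

open Groth.Agent.Dcoh

variable {X : Scheme.{u}}

/-- The tensor product is right t-exact. -/
theorem isLE_tensor (K L : DCoh.D X) (a b : ℤ) [K.IsLE a] [L.IsLE b] : (K ⊗ L).IsLE (a + b) := by
  have h := ModTens.hasLTensorCx (DerivedCategory.Q.objPreimage L)
  have h0 : (DCoh.toD X (DerivedCategory.Q.objPreimage L)).IsLE b :=
    DerivedCategory.TStructure.t.isLE_of_iso (DerivedCategory.Q.objObjPreimageIso L).symm b
  have h1 := PerfC.LTBound.isLE_LTensorCx (PerfC.DTens.bifData X) (DerivedCategory.Q.objPreimage L) b K a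
  exact DerivedCategory.TStructure.t.isLE_of_iso ((ModTens.LTensorCxIso _).app K ≪≫
    (MonAdj.tensorRightIso (DerivedCategory.Q.objObjPreimageIso L)).app K) (a + b)

/-- `E ⊗ -` preserves lower bounds up to a constant for `E` perfect on a quasi-compact scheme. -/
theorem exists_bound [CompactSpace X] (E : DCoh.D X) (hE : DCoh.IsPerfect E) :
    ∃ a : ℤ, ∀ (A : DCoh.D X) (c : ℤ) [A.IsGE c], (E ⊗ A).IsGE (a + c) := by
  obtain ⟨E', hE', ⟨h⟩⟩ := PerfDual.exists_exactPairing E hE
  obtain ⟨-, b, -, hb⟩ := PerfA.Restrict.exists_bounds_of_isPerfect E' hE'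
  refine ⟨-b, fun A c _ => ?_⟩
  refine (DerivedCategory.TStructure.t.isGE_iff_orthogonal (-b + c - 1) (-b + c) (by omega) _).2 ?_
  intro K g hK
  have h1 := isLE_tensor E' K b (-b + c - 1)
  have h2 : Subsingleton (E' ⊗ K ⟶ A) := ⟨fun f g =>
    (DerivedCategory.TStructure.t.zero f (b + (-b + c - 1)) c (by omega)).trans
      (DerivedCategory.TStructure.t.zero g (b + (-b + c - 1)) c (by omega)).symm⟩
  have h3 := (tensorLeftHomEquiv K E E' A).symm.subsingleton
  exact Subsingleton.elim _ _

/-- The same for `LTensorCx`. -/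
theorem exists_bound' [CompactSpace X] (E : DCoh.D X) (hE : DCoh.IsPerfect E) :
    ∃ a : ℤ, ∀ (M : CochainComplex X.Modules ℤ) (c : ℤ) [(DCoh.toD X M).IsGE c] [DCoh.HasLTensorCx M],
      ((DCoh.LTensorCx M).obj E).IsGE (a + c) := by
  obtain ⟨a, ha⟩ := exists_bound E hE
  refine ⟨a, fun M c _ _ => ?_⟩
  have h1 : DerivedCategory.TStructure.t.IsGE ((tensorRight (DerivedCategory.Q.obj M)).obj E) (a + c) :=
    ha (DCoh.toD X M) c
  exact DerivedCategory.TStructure.t.isGE_of_iso ((ModTens.LTensorCxIso M).app E).symm (a + c)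

end Groth.Agent.Dual.H379.TensBound
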