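import Groth.Agent.Dual.H379.LpullBound
import Groth.Agent.Dual.H379.TensBound
import Groth.Agent.S1006
import Groth.Agent.S1001
import Groth.Agent.S1039
import Groth.Agent.S1118
import Groth.Agent.S1073
import Groth.Agent.S0912
import Groth.Agent.S0020
import Groth.Agent.Dcoh.PerfFlat
import Groth.Agent.Dcoh.DerSch
import Groth.Agent.Dcoh.LTMod
import Groth.Agent.Cohder.RelPCMon
import Groth.Agent.PerfC.RpushTrunc
import Groth.Agent.PerfB.StructFlat

/-!
# `Rf_*` preserves perfect objects for `f` proper and perfect over a locally Noetherian base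
-/

set_option autoImplicit false

universe u

open CategoryTheory CategoryTheory.Limits AlgebraicGeometry

attribute [local instance] HasDerivedCategory.standard

namespace Groth.Agent.Dual.H379.PerfPush

open Groth.Agent.Dcoh LpullBound

variable {X Y : Scheme.{u}}

/-- `Rf_* E` has tor amplitude bounded below for `E` perfect and `f` of finite tor dimension. -/
theorem exists_torAmplitude [QuasiSeparatedSpace Y] [CompactSpace X] (f : X ⟶ Y) [QuasiCompact f]
    [QuasiSeparated f] (hf : LocTorDim f) [DCoh.HasRpush f] (E : DCoh.D X) (hE : DCoh.IsPerfect E)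
    (hq : DCoh.IsQCohD ((DCoh.Rpush f).obj E)) (b : ℤ) [((DCoh.Rpush f).obj E).IsLE b] :
    ∃ a : ℤ, a ≤ b ∧ DCoh.HasTorAmplitudeIn a b ((DCoh.Rpush f).obj E) := by
  have hl : DCoh.HasLpull f := S0959.result f
  obtain ⟨n, hn⟩ := LpullBound.exists_bound f hf
  obtain ⟨a, ha⟩ := TensBound.exists_bound' E hE
  refine ⟨min (a + -(n : ℤ)) b, min_le_right _ _, ?_⟩
  rw [S1073.result Y _ hq _ b (min_le_right _ _)]
  intro F hF _ i hi
  have h1 : DCoh.HasLTensorCx (Cohder.RelPCMon.sgl F) := ModTens.hasLTensorCx _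
  obtain ⟨e1⟩ := Cohder.RelPCMon.nonempty_mod F ((DCoh.Rpush f).obj E)
  let s : DCoh.inD Y F ≅ DCoh.toD Y (Cohder.RelPCMon.sgl F) :=
    (DerivedCategory.singleFunctorIsoCompQ Y.Modules 0).app F
  have hs : DCoh.IsQCohD (DCoh.toD Y (Cohder.RelPCMon.sgl F)) :=
    PerfA.QCohD.isQCohD_of_iso s (PerfA.QCohD.isQCohD_inD F hF)
  let M := DerivedCategory.Q.objPreimage ((DCoh.Lpull f).obj (DCoh.toD Y (Cohder.RelPCMon.sgl F)))
  let eM : DCoh.toD X M ≅ (DCoh.Lpull f).obj (DCoh.toD Y (Cohder.RelPCMon.sgl F)) :=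
    DerivedCategory.Q.objObjPreimageIso _
  have h2 : DCoh.HasLTensorCx M := ModTens.hasLTensorCx _
  obtain ⟨e2⟩ := S1118.result f E (PerfA.QCohD.isQCohD_of_isPerfect E hE) (Cohder.RelPCMon.sgl F) hs M ⟨eM⟩
  rcases hi with hi | hi
  · have h3 : (DCoh.toD X M).IsGE (-(n : ℤ)) := by
      have := hn F hF
      exact DerivedCategory.TStructure.t.isGE_of_iso ((DCoh.Lpull f).mapIso s ≪≫ eM.symm) _
    have h4 := ha M (-(n : ℤ))
    have h5 := PerfC.RpushTrunc.isGE_Rpush f ((DCoh.LTensorCx M).obj E) (a + -(n : ℤ))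
    exact (DerivedCategory.isZero_of_isGE _ (a + -(n : ℤ)) i (lt_of_lt_of_le hi (min_le_left _ _))).of_iso
      ((DerivedCategory.homologyFunctor Y.Modules i).mapIso (e1 ≪≫ e2))
  · have h3 : (DCoh.toD Y (Cohder.RelPCMon.sgl F)).IsLE 0 :=
      DerivedCategory.TStructure.t.isLE_of_iso s 0
    have h4 := PerfC.LTBound.isLE_LTensorCx (PerfC.DTens.bifData Y) (Cohder.RelPCMon.sgl F) 0
      ((DCoh.Rpush f).obj E) b
    exact (DerivedCategory.isZero_of_isLE _ (b + 0) i (by simpa using hi)).of_iso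
      ((DerivedCategory.homologyFunctor Y.Modules i).mapIso e1)

/-- `Rf_*` preserves perfect objects: `Y` Noetherian, `f` proper of finite tor dimension. -/
theorem isPerfect_Rpush [IsNoetherian Y] (f : X ⟶ Y) [IsProper f] (hf : LocTorDim f) [DCoh.HasRpush f]
    (E : DCoh.D X) (hE : DCoh.IsPerfect E) : DCoh.IsPerfect ((DCoh.Rpush f).obj E) := by
  have hX : IsNoetherian X := by
    have : IsLocallyNoetherian X := LocallyOfFiniteType.isLocallyNoetherian f
    have : CompactSpace X := QuasiCompact.compactSpace_of_compactSpace f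
    exact {}
  obtain ⟨hcoh, a, b, ha, hb⟩ := S1006.result X E hE
  obtain ⟨h1, h2, b', h3⟩ := S1001.result f E a b hcoh (fun i =>
    PerfB.StructFlat.isProperOver_of_isProper f _ (S0020.result X _ (hcoh i).2))
  have hq : DCoh.IsQCohD ((DCoh.Rpush f).obj E) := fun i => (h1 i).1
  have hpc : ∀ m : ℤ, DCoh.IsPseudoCoherentD m ((DCoh.Rpush f).obj E) := fun m =>
    (S1039.result Y _ hq m).2 ⟨fun i _ => h1 i, b', h3⟩
  obtain ⟨c, hc, h4⟩ := exists_torAmplitude f hf E hE hq b'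
  exact PerfFlat.isPerfect_of_flatAmplitude
    ((S0912.result _ c b' hc (fun G => LTMod.hasLTensorMod G)).1 h4) (hpc (c - 1))

/-- Charts for `f ∣_ V`. -/
theorem locTorDim_restrict (f : X ⟶ Y) (hf : MoreMor.IsPerfectMor f) (V : Y.Opens) (hV : IsAffineOpen V) :
    LocTorDim (f ∣_ V) := by
  intro x
  obtain ⟨U, hU, hxU, hUV⟩ := exists_isAffineOpen_mem_and_subset (U := f ⁻¹ᵁ V) (x := x.1) x.2
  obtain ⟨n, hn⟩ := (hf U V hU hV hUV).2
  let v : Spec Γ(X, U) ⟶ (f ⁻¹ᵁ V : X.Opens) := IsOpenImmersion.lift (f ⁻¹ᵁ V).ι hU.fromSpec (by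
    rw [hU.range_fromSpec, Scheme.Opens.range_ι]
    exact hUV)
  have hv : v ≫ (f ⁻¹ᵁ V).ι = hU.fromSpec := IsOpenImmersion.lift_fac _ _ _
  have hvo : IsOpenImmersion v := by
    have : IsOpenImmersion (v ≫ (f ⁻¹ᵁ V).ι) := by rw [hv]; infer_instance
    exact IsOpenImmersion.of_comp v (f ⁻¹ᵁ V).ι
  refine ⟨Γ(Y, V), Γ(X, U), f.appLE V U hUV, v, hV.isoSpec.inv, hvo, inferInstance,
    hU.primeIdealOf ⟨x.1, hxU⟩, n, ?_, ?_, hn⟩
  · apply Subtype.ext
    have h1 : (f ⁻¹ᵁ V).ι (v (hU.primeIdealOf ⟨x.1, hxU⟩)) = hU.fromSpec (hU.primeIdealOf ⟨x.1, hxU⟩) := by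
      rw [← hv]; rfl
    exact h1.trans (hU.fromSpec_primeIdealOf ⟨x.1, hxU⟩)
  · rw [← cancel_mono V.ι, Category.assoc, Category.assoc, morphismRestrict_ι, ← Category.assoc, hv,
      hV.isoSpec_inv_ι]
    exact (hV.SpecMap_appLE_fromSpec f hU hUV).symm

/-- `Rf_*` preserves perfect objects: `Y` locally Noetherian, `f` proper and perfect. -/
theorem isPerfect_Rpush_of_isPerfectMor [IsLocallyNoetherian Y] (f : X ⟶ Y) [IsProper f]
    (hf : MoreMor.IsPerfectMor f) [DCoh.HasRpush f] (E : DCoh.D X) (hE : DCoh.IsPerfect E) :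
    DCoh.IsPerfect ((DCoh.Rpush f).obj E) := by
  refine LocalD.isPerfect_of_cover fun y => ?_
  obtain ⟨V, hV, hyV, -⟩ := exists_isAffineOpen_mem_and_subset (U := (⊤ : Y.Opens)) (x := y)
    (TopologicalSpace.Opens.mem_top _)
  refine ⟨V, V.ι, inferInstance, ?_, ?_⟩
  · rw [Scheme.Opens.range_ι]
    exact hyV
  have hVc : CompactSpace V := isCompact_iff_compactSpace.1 hV.isCompact
  have hVn : IsNoetherian V := {}
  have h0 : DCoh.HasRpush (f ∣_ V) := DerSch.hasRpush _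
  obtain ⟨e⟩ := DerSch.exists_rpushRestrictIso f (f ∣_ V) (f ⁻¹ᵁ V).ι V.ι (isPullback_morphismRestrict f V).flip
  exact LocalD.isPerfect_of_iso (e.app E).symm
    (isPerfect_Rpush (f ∣_ V) (locTorDim_restrict f hf V hV) _ (LocalD.isPerfect_restrict (f ⁻¹ᵁ V).ι hE))

end Groth.Agent.Dual.H379.PerfPush
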